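import Cfsg.Agent.Lib.Spor.Fi23ThreeB.Defs

/-!
Kernel checks for the normaliser of a subgroup of order three in Fi23.
-/

set_option maxRecDepth 100000
set_option maxHeartbeats 0
set_option Elab.async false

namespace CfsgLib.Spor.Fi23.Norm

open CfsgLib.PresCert

theorem seeds_ok : (seeds.all inH) = true := by decide +kernel

theorem derived_ok : okDerived seeds derived = true := by decide +kernel

theorem derived_length : derived.length = 9 := by decide +kernel

end CfsgLib.Spor.Fi23.Norm
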