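import Cfsg.Agent.Lib.Spor.Fi23ThreeB.Solvable
import Cfsg.Agent.Lib.Spor.Fi23ThreeB.ChkDerived

/-!
The tenth derived subgroup of the normaliser differs from the ninth.
-/

namespace CfsgLib.Spor.Fi23.Norm

open CfsgLib.PresCert CfsgLib.Spor.Fi23.Auto Cfsg.Spor
open scoped commutatorElement

local notation "F" => Cfsg.Spor.Fi23

/-- a term of the derived series inside the whole group -/
noncomputable def dSer (k : ℕ) : Subgroup F := (derivedSeries nH k).map nH.subtype

theorem comm_mem_dSer {k : ℕ} {a b : F} (ha : a ∈ dSer k) (hb : b ∈ dSer k) :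
    a * b * a⁻¹ * b⁻¹ ∈ dSer (k + 1) := by
  obtain ⟨a, ha, rfl⟩ := ha
  obtain ⟨b, hb, rfl⟩ := hb
  refine ⟨⁅a, b⁆, ?_, rfl⟩
  rw [SetLike.mem_coe, derivedSeries_succ]
  exact Subgroup.commutator_mem_commutator ha hb

theorem exists_nontrivial : ∀ (l : List (List (ℕ × ℕ × List (List ℕ))))
    (prev : List (List (List ℕ))) (k : ℕ), okDerived prev l = true →
      (∀ t ∈ prev, okT t = true ∧ tEl t ∈ dSer k) → ∃ y ∈ dSer (k + l.length), y ≠ 1
  | [], prev, k, h, hp => by
    simp only [okDerived, List.any_eq_true, Bool.not_eq_true'] at h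
    obtain ⟨t, ht, hs⟩ := h
    exact ⟨_, (hp t ht).2, sameB_ne (hp t ht).1 rfl hs⟩
  | cur :: r, prev, k, h, hp => by
    simp only [okDerived, Bool.and_eq_true] at h
    obtain ⟨hg, hr⟩ := h
    simp only [okGen, List.all_eq_true, Bool.and_eq_true, Nat.blt_eq] at hg
    obtain ⟨y, hy, hne⟩ := exists_nontrivial r _ (k + 1) hr fun t ht => by
      obtain ⟨e, he, rfl⟩ := List.mem_map.1 ht
      obtain ⟨⟨⟨hok, hi⟩, hj⟩, hs⟩ := hg e he
      obtain ⟨oka, hma⟩ := hp _ (List.getElem_mem hi)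
      obtain ⟨okb, hmb⟩ := hp _ (List.getElem_mem hj)
      rw [List.getD_eq_getElem _ _ hi, List.getD_eq_getElem _ _ hj] at hs
      refine ⟨hok, ?_⟩
      rw [sameB_eq hok (okT_append.2 ⟨okT_append.2 ⟨okT_append.2 ⟨okT_reverse okb,
        okT_reverse oka⟩, okb⟩, oka⟩) hs, tEl_append, tEl_append, tEl_append, tEl_reverse,
        tEl_reverse, ← mul_assoc, ← mul_assoc]
      exact comm_mem_dSer hma hmb
    refine ⟨y, ?_, hne⟩
    rw [List.length_cons]
    rwa [show k + (r.length + 1) = k + 1 + r.length by omega]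

theorem derived_ninth_ne_bot : derivedSeries nH 9 ≠ ⊥ := by
  obtain ⟨y, hy, hne⟩ := exists_nontrivial derived seeds 0 derived_ok fun t ht => by
    have h := List.all_eq_true.1 seeds_ok t ht
    exact ⟨inH_okT h, ⟨⟨tEl t, inH_mem h⟩, by simp, rfl⟩⟩
  rw [Nat.zero_add, derived_length] at hy
  intro h
  rw [dSer, h, Subgroup.map_bot] at hy
  exact hne (Subgroup.mem_bot.1 hy)

theorem derived_tenth_ne : derivedSeries nH 10 ≠ derivedSeries nH 9 := by
  intro h
  refine derived_ninth_ne_bot ?_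
  have key : ∀ m, derivedSeries nH (9 + m) = derivedSeries nH 9 := by
    intro m
    induction m with
    | zero => rfl
    | succ m ih => rw [← Nat.add_assoc, derivedSeries_succ, ih, ← derivedSeries_succ, h]
  obtain ⟨n, hn⟩ := nH_solvable.solvable
  rw [← key n, eq_bot_iff, ← hn]
  exact derivedSeries_antitone _ (Nat.le_add_left n 9)

theorem example_exists :
    ∃ (G : Type) (_ : Group G) (_ : Finite G) (S H : Subgroup G), S.Normal ∧ IsSimpleGroup S ∧
      ¬ IsMulCommutative S ∧ Subgroup.centralizer (S : Set G) = ⊥ ∧ IsCoatom H ∧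
      derivedSeries H 10 ≠ derivedSeries H 9 := by
  haveI := finite
  haveI hs : IsSimpleGroup F := isFi23.1
  have hcen : ∀ y : F, (∀ g, g * y = y * g) → y = 1 := fun y hy =>
    eq_one_of_comm fun v => by
      refine (comm_dq_iff y _).1 ?_
      rw [dq_gpt]
      exact (hy (gen v)).symm
  refine ⟨F, inferInstance, finite, ⊤, nH, inferInstance, ?_, ?_, ?_, nH_isCoatom, derived_tenth_ne⟩
  · exact MulEquiv.isSimpleGroup Subgroup.topEquiv
  · intro hc
    refine x_ne_one (hcen x fun g => ?_)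
    exact congrArg Subtype.val
      (hc.is_comm.comm (⟨g, Subgroup.mem_top g⟩ : (⊤ : Subgroup F)) ⟨x, Subgroup.mem_top x⟩)
  · rw [eq_bot_iff]
    intro y hy
    exact Subgroup.mem_bot.2 (hcen y fun g => Subgroup.mem_centralizer_iff.1 hy g (Subgroup.mem_top g))

end CfsgLib.Spor.Fi23.Norm
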